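import Mathlib
import Groth.Agent.FlatRelPCLib.Basic
import Groth.Agent.RelPCSchLib.Desc
import Groth.Agent.AffPushPCLib.Main
import Groth.Agent.QRlimLib.Unbounded
import Groth.Agent.RelPCLib.Finite

/-!
# Relative pseudo-coherence and direct image along a finite morphism
-/

set_option autoImplicit false
set_option backward.isDefEq.respectTransparency false
set_option backward.isDefEq.respectTransparency.types false
set_option maxHeartbeats 1600000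

universe u

open CategoryTheory CategoryTheory.Limits AlgebraicGeometry Opposite
open Groth.Agent
open Groth.Agent.PerfLib (resD res)
open Groth.Agent.DerLib

attribute [local instance] HasDerivedCategory.standard
attribute [local instance] FlatRelPCLib.tildeExact

noncomputable section

namespace FinPushPCLib

variable {X Y S : Scheme.{u}}

/-- Over an affine open the direct image along an affine morphism is restriction of scalars. -/
theorem mod_rpush (f : X ⟶ Y) [IsAffineHom f] [DCoh.HasRpush f] {W : Y.Opens} (hW : IsAffineOpen W)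
    {E : DCoh.D X} {M : Dual.D Γ(X, f ⁻¹ᵁ W)} (hM : FlatRelPCLib.Mod E (hW.preimage f) M) :
    FlatRelPCLib.Mod ((DCoh.Rpush f).obj E) hW ((DRing.restrictD (f.app W).hom).obj M) := by
  have hU : IsAffineOpen (f ⁻¹ᵁ W) := hW.preimage f
  let a := hW.isoSpec.inv
  let b := hU.isoSpec.inv
  have hsq : Spec.map (f.app W) ≫ a = b ≫ (f ∣_ W) := by
    rw [← cancel_mono W.ι, Category.assoc, Category.assoc, morphismRestrict_ι,
      IsAffineOpen.isoSpec_inv_ι, IsAffineOpen.isoSpec_inv_ι_assoc, ← Scheme.Hom.appLE_eq_app,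
      IsAffineOpen.SpecMap_appLE_fromSpec f hW hU le_rfl]
  obtain ⟨eM⟩ := hM
  haveI : ∀ (S T : Scheme.{u}) (q : S ⟶ T) [IsOpenImmersion q],
      PreservesFiniteLimits (Scheme.Modules.restrictFunctor q) := fun S T q _ => inferInstance
  haveI := KInjDerived.hasRightDerivedFunctor (DCoh.pushKh (f ∣_ W))
    (KFlatLib.enoughKInj_modules (X := (f ⁻¹ᵁ W : X.Opens).toScheme))
  haveI := KInjDerived.hasRightDerivedFunctor (DCoh.pushKh (Spec.map (f.app W)))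
    (KFlatLib.enoughKInj_modules (X := Spec Γ(X, f ⁻¹ᵁ W)))
  obtain ⟨c₁⟩ := PerfLib.nonempty_resD_comp a W.ι ((DCoh.Rpush f).obj E)
  obtain ⟨c₂⟩ := PerfLib.nonempty_resD_comp b (f ⁻¹ᵁ W).ι E
  obtain ⟨g₁⟩ := PerfLib.nonempty_resD_congr hW.isoSpec_inv_ι ((DCoh.Rpush f).obj E)
  obtain ⟨g₂⟩ := PerfLib.nonempty_resD_congr hU.isoSpec_inv_ι E
  obtain ⟨d₁⟩ := DCohRestrLib.nonempty_restrictD_Rpush f W
  obtain ⟨d₂⟩ := AffPushPCLib.nonempty_resIso_Rpush (f ∣_ W) (Spec.map (f.app W)) a b hsq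
  obtain ⟨d₃⟩ := TildeDerLib.nonempty_rpushTildeDIso (f.app W)
  exact ⟨(g₁.symm ≪≫ c₁ ≪≫ (resD a).mapIso (d₁.app E) ≪≫ d₂.app _ ≪≫
      (DCoh.Rpush (Spec.map (f.app W))).mapIso (c₂.symm ≪≫ g₂ ≪≫ eM.symm) ≪≫ d₃.app M).symm⟩

theorem rel_iff_rpush_of_isFinite (p : X ⟶ S) (q : Y ⟶ S) [LocallyOfFiniteType p]
    [LocallyOfFiniteType q] (π : X ⟶ Y) [IsFinite π] (w : π ≫ q = p) [DCoh.HasRpush π] (m : ℤ)
    (E : DCoh.D X) (hE : DCoh.IsQCohD E) :
    DerSch.IsPseudoCoherentRel p m E ↔ DerSch.IsPseudoCoherentRel q m ((DCoh.Rpush π).obj E) := by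
  subst w
  have hπE : DCoh.IsQCohD ((DCoh.Rpush π).obj E) := QRlimLib.isQCohD_rpush π hE
  have key : ∀ (W : Y.Opens) (hW : IsAffineOpen W) (V : S.Opens) (_ : IsAffineOpen V) (h : W ≤ q ⁻¹ᵁ V)
      (hU : π ⁻¹ᵁ W ≤ (π ≫ q) ⁻¹ᵁ V),
      FlatRelPCLib.RPC (π ≫ q) m E (hW.preimage π) V hU ↔
        FlatRelPCLib.RPC q m ((DCoh.Rpush π).obj E) hW V h := by
    intro W hW V hV h hU
    obtain ⟨M, hM⟩ := FlatRelPCLib.exists_mod hE (hW.preimage π)
    have hN := mod_rpush π hW hM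
    letI : Algebra Γ(S, V) Γ(Y, W) := (q.appLE V W h).hom.toAlgebra
    letI : Algebra Γ(Y, W) Γ(X, π ⁻¹ᵁ W) := (π.app W).hom.toAlgebra
    letI : Algebra Γ(S, V) Γ(X, π ⁻¹ᵁ W) := ((π ≫ q).appLE V (π ⁻¹ᵁ W) hU).hom.toAlgebra
    haveI : IsScalarTower Γ(S, V) Γ(Y, W) Γ(X, π ⁻¹ᵁ W) := IsScalarTower.of_algebraMap_eq' (by
      show ((π ≫ q).appLE V (π ⁻¹ᵁ W) hU).hom = (π.app W).hom.comp (q.appLE V W h).hom
      rw [← CommRingCat.hom_comp, ← Scheme.Hom.appLE_eq_app, Scheme.Hom.appLE_comp_appLE])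
    haveI : Algebra.FiniteType Γ(S, V) Γ(Y, W) := q.finiteType_appLE hV hW h
    haveI : Module.Finite Γ(Y, W) Γ(X, π ⁻¹ᵁ W) := (IsFinite.finite_app (f := π) W hW)
    have iff1 := RelPCLib.isRel_restrict_iff (R := Γ(S, V)) (A := Γ(Y, W)) M m
    constructor
    · intro hr N hN'
      obtain ⟨e⟩ := hN.unique hN'
      obtain ⟨k, α, hα, hv⟩ := iff1.1 (hr M hM)
      exact ⟨k, α, hα, RelPCLib.PV.of_iso e hv⟩
    · intro hr M' hM'
      obtain ⟨e⟩ := hM.unique hM'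
      obtain ⟨k, α, hα, hv⟩ := iff1.2 (hr _ hN)
      exact ⟨k, α, hα, RelPCLib.PV.of_iso e hv⟩
  constructor
  · intro hrel
    refine FlatRelPCLib.rel_of_rpc q hπE fun W V h => ?_
    have hU : π ⁻¹ᵁ (W : Y.Opens) ≤ (π ≫ q) ⁻¹ᵁ (V : S.Opens) := fun y hy => h hy
    exact (key W W.2 V V.2 h hU).1
      (FlatRelPCLib.rpc_of_rel (π ≫ q) hE hrel (W.2.preimage π) V.2 hU)
  · intro hrel
    refine RelPCSchLib.rel_of_points (π ≫ q) fun x => ?_
    obtain ⟨V, hV, hxV, -⟩ := exists_isAffineOpen_mem_and_subset (x := q (π x)) (U := ⊤) trivial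
    obtain ⟨W, hW, hxW, hWV⟩ := exists_isAffineOpen_mem_and_subset (x := π x) (U := q ⁻¹ᵁ V) hxV
    have h : W ≤ q ⁻¹ᵁ V := hWV
    have hU : π ⁻¹ᵁ W ≤ (π ≫ q) ⁻¹ᵁ V := fun y hy => h hy
    obtain ⟨n, φ, hφ, hc⟩ := FlatRelPCLib.exists_chart_of_rpc (π ≫ q) hE (hW.preimage π) hU
      ((key W hW V hV h hU).2 (FlatRelPCLib.rpc_of_rel q hπE hrel hW hV h))
    exact ⟨π ⁻¹ᵁ W, hW.preimage π, V, hV, hU, hxW,
      RelPCSchLib.rpc_of_chart (π ≫ q) (hW.preimage π) hU φ hφ hc⟩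

end FinPushPCLib
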